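import Cfsg.Agent.OddHalf.D3.Spread.FamSpread
import Cfsg.Agent.OddHalf.D3.Swap

/-!
# ODD D3b, n = 2, the case (F), in the form of helper245 (#10525)
-/

set_option autoImplicit false
set_option linter.style.haveILetI false

namespace Cfsg.Agent.OddHalf.D3.Spread

open Subgroup Cfsg
open Cfsg.Agent.OddHalf.D3.ThreeDefs Cfsg.Agent.OddHalf.D3.ThreeFam

universe u

variable {G : Type u} [Group G]

/-- a subgroup which contains a conjugate of every 2-subgroup has odd index -/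
theorem not_dvd_relIndex [Finite G] {S A : Subgroup G} (hSA : S ≤ A) (hS : IsPGroup 2 S)
    (h : ∀ R : Subgroup G, R ≤ A → IsPGroup 2 R → ∃ k ∈ A, cj k R ≤ S) : ¬ 2 ∣ S.relIndex A := by
  haveI : Fact (Nat.Prime 2) := ⟨Nat.prime_two⟩
  intro hdvd
  let R : Sylow 2 A := default
  let R' : Subgroup G := (R : Subgroup A).map A.subtype
  have hR' : R' ≤ A := map_subtype_le _
  obtain ⟨k, -, hk⟩ := h R' hR' (R.isPGroup'.map _)
  have h1 : Nat.card R' ≤ Nat.card S := by
    rw [← card_cj k R']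
    exact card_le_of_le hk
  have h2 : Nat.card R' = Nat.card (R : Subgroup A) :=
    (Nat.card_congr ((R : Subgroup A).equivMapOfInjective A.subtype (subtype_injective A)).toEquiv).symm
  -- `S` in a Sylow subgroup of `A`
  obtain ⟨Q, hQ⟩ := IsPGroup.exists_le_sylow (P := S.subgroupOf A) (p := 2) hS.comap_subtype
  have h3 : Nat.card (S.subgroupOf A) = Nat.card S := Nat.card_congr (subgroupOfEquivOfLe hSA).toEquiv
  have h4 : Nat.card (Q : Subgroup A) = Nat.card (R : Subgroup A) := Nat.card_congr (Sylow.equiv Q R).toEquiv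
  have h5 : S.subgroupOf A = (Q : Subgroup A) := by
    apply Subgroup.eq_of_le_of_card_ge hQ
    rw [h3, h4, ← h2]
    exact h1
  rw [relIndex, h5] at hdvd
  exact Q.not_dvd_index hdvd

/-- **(F)**, the form of #10525. -/
theorem full_false [Finite G] {𝓒 : Set (Set (Subgroup G))} (F : Fam 𝓒) {c d : Set (Subgroup G)} (hc : c ∈ 𝓒)
    (hd : d ∈ 𝓒) (hcd : c ≠ d) (hle : Swap.AtMostTwo d) {A A' M M' S : Subgroup G} (hA : A ∈ c) (hA' : A' ∈ c)
    (hAA : A ≠ A') (hM : M ∈ d) (hM' : M' ∈ d) (hMM : M ≠ M') (hs : IsSimpleGroup A)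
    (hS : S ≤ A ∧ IsPGroup 2 S ∧ ∀ R : Subgroup G, R ≤ A → IsPGroup 2 R → ∃ k ∈ A, cj k R ≤ S)
    (hab : ∀ x ∈ S, ∀ y ∈ S, x * y = y * x)
    (h1 : ∀ a ∈ S, a * a = 1 → a ≠ 1 → ∃ u ∈ M, u * u = 1 ∧ a * u ∈ A')
    {a' u u' : G} (ha' : a' ∈ A') (ha2 : a' * a' = 1) (ha1 : a' ≠ 1) (hu : u ∈ M) (hu2 : u * u = 1) (hu' : u' ∈ M')
    (hu2' : u' * u' = 1) (hau : a' * u ∈ S) (hau' : a' * u' ∈ S) (hnot : ¬ A ≤ St d) : False := by
  haveI : Fact (Nat.Prime 2) := ⟨Nat.prime_two⟩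
  obtain ⟨hSA, hSp, hSs⟩ := hS
  have hSi := not_dvd_relIndex hSA hSp hSs
  have hcomm : ∀ x ∈ A, ∀ y ∈ A', x * y = y * x := F.comm c hc A hA A' hA' hAA
  -- centralizers of the involutions of `S`
  have hcen : ∀ a ∈ S, a * a = 1 → a ≠ 1 → ∀ g ∈ A, g * a = a * g → g ∈ St d := by
    intro a ha haa ha1 g hg hga
    obtain ⟨v, hv, hvv, hav⟩ := h1 a ha haa ha1
    have hv1 : v ≠ 1 := by
      rintro rfl
      rw [mul_one] at hav
      exact ha1 (F.inter_same hc hA hA' hAA (hSA ha) hav haa)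
    refine F.cen hd (F.inU_of_mem hd hM hv hvv hv1) ?_
    have e : v = a * (a * v) := by rw [← mul_assoc, haa, one_mul]
    have h2 := hcomm g hg _ hav
    rw [e]
    calc a * (a * v) * g = a * ((a * v) * g) := mul_assoc _ _ _
      _ = a * (g * (a * v)) := by rw [h2]
      _ = (a * g) * (a * v) := by group
      _ = (g * a) * (a * v) := by rw [hga]
      _ = g * (a * (a * v)) := by group
  set b : G := a' * u with hb
  set b' : G := a' * u' with hb'
  have hub : u = a' * b := by rw [hb, ← mul_assoc, ha2, one_mul]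
  have hub' : u' = a' * b' := by rw [hb', ← mul_assoc, ha2, one_mul]
  have hba : b * a' = a' * b := hcomm b (hSA hau) a' ha'
  have hba' : b' * a' = a' * b' := hcomm b' (hSA hau') a' ha'
  have hbb : b * b = 1 := by
    have h2 : u * u = b * b := by
      rw [hub]
      calc a' * b * (a' * b) = a' * (b * a') * b := by group
        _ = a' * (a' * b) * b := by rw [hba]
        _ = (a' * a') * (b * b) := by group
        _ = b * b := by rw [ha2, one_mul]
    rw [← h2, hu2]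
  have hbb' : b' * b' = 1 := by
    have h2 : u' * u' = b' * b' := by
      rw [hub']
      calc a' * b' * (a' * b') = a' * (b' * a') * b' := by group
        _ = a' * (a' * b') * b' := by rw [hba']
        _ = (a' * a') * (b' * b') := by group
        _ = b' * b' := by rw [ha2, one_mul]
    rw [← h2, hu2']
  have hA'M : ∀ {X}, X ∈ d → a' ∉ X := by
    intro X hX ha
    exact ha1 (F.inter_inv hc hd hcd hA' hX ha' ha ha2)
  have hb1 : b ≠ 1 := by
    intro h
    rw [h, mul_one] at hub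
    exact hA'M hM (hub ▸ hu)
  have hb1' : b' ≠ 1 := by
    intro h
    rw [h, mul_one] at hub'
    exact hA'M hM' (hub' ▸ hu')
  have hu1 : u ≠ 1 := by
    rintro rfl
    have h2 : a' ∈ A := hSA (by rw [hb, mul_one] at hau; exact hau)
    exact ha1 (F.inter_same hc hA hA' hAA h2 ha' ha2)
  have hu1' : u' ≠ 1 := by
    rintro rfl
    have h2 : a' ∈ A := hSA (by rw [hb', mul_one] at hau'; exact hau')
    exact ha1 (F.inter_same hc hA hA' hAA h2 ha' ha2)
  -- the Sylow subgroup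
  let P : Sylow 2 A := IsPGroup.toSylow (P := S.subgroupOf A) (hSp.comap_subtype) hSi
  have hP : ∀ x : A, x ∈ (P : Subgroup A) ↔ (x : G) ∈ S := fun x => Iff.rfl
  have hYtop : (St d).subgroupOf A ≠ ⊤ := fun h => hnot (subgroupOf_eq_top.1 h)
  obtain ⟨⟨n, hnA⟩, hn, hodd, hna⟩ := exists_odd_conj_inv P
    (fun x hx y hy => Subtype.ext (hab x ((hP x).1 hx) y ((hP y).1 hy))) hYtop
    (fun a ha haa ha1 g hga => mem_subgroupOf.2 (hcen a ((hP a).1 ha) (congrArg Subtype.val haa)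
      (fun h => ha1 (Subtype.ext h)) g g.2 (congrArg Subtype.val (mem_centralizer_singleton_iff.1 hga))))
    (a := ⟨b, hSA hau⟩) (b := ⟨b', hSA hau'⟩) ((hP _).2 hau) (Subtype.ext hbb)
    (fun h => hb1 (congrArg Subtype.val h)) ((hP _).2 hau') (Subtype.ext hbb')
    (fun h => hb1' (congrArg Subtype.val h))
  have hna' : n * b * n⁻¹ = b' := congrArg Subtype.val hna
  rw [orderOf_mk] at hodd
  have hnS : ∀ x ∈ S, n * x * n⁻¹ ∈ S := by
    intro x hx
    exact (hP _).1 ((mem_normalizer_iff.1 hn ⟨x, hSA hx⟩).1 ((hP _).2 hx))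
  have hcn : ∀ m ∈ A, ∀ x : G, m * (a' * x) * m⁻¹ = a' * (m * x * m⁻¹) := by
    intro m hm x
    have h2 := hcomm m hm a' ha'
    calc m * (a' * x) * m⁻¹ = (m * a') * x * m⁻¹ := by group
      _ = (a' * m) * x * m⁻¹ := by rw [h2]
      _ = a' * (m * x * m⁻¹) := by group
  have hnu : n * u * n⁻¹ = u' := by rw [hub, hcn n hnA, hna', ← hub']
  have hmn : n * u * n⁻¹ ∈ cj n M := conj_mem_cj hu
  rw [hnu] at hmn
  obtain ⟨hcjs, hcjM⟩ := eq_of_inv F (F.conj n d hd) hd (cj_mem_cjs hM) hM' hmn hu' hu2' hu1'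
  have hMn : cj n M' = M := by
    rcases Swap.two_cases hle hM hM' hMM.symm (mem_St.2 hcjs) with h | h
    · exact absurd (h.1.symm.trans hcjM) hMM
    · exact h.2
  have hMM' : cj (n * n) M = M := by rw [cj_mul, hcjM, hMn]
  have h5 : n * n * u * (n * n)⁻¹ ∈ M := by
    have := conj_mem_cj (g := n * n) hu
    rwa [hMM'] at this
  have h6 : n * n * u * (n * n)⁻¹ = a' * (n * (n * b * n⁻¹) * n⁻¹) := by
    calc n * n * u * (n * n)⁻¹ = n * (n * u * n⁻¹) * n⁻¹ := by group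
      _ = n * (n * (a' * b) * n⁻¹) * n⁻¹ := by rw [hub]
      _ = a' * (n * (n * b * n⁻¹) * n⁻¹) := by rw [hcn n hnA, hcn n hnA]
  have h7 : b⁻¹ * (n * (n * b * n⁻¹) * n⁻¹) = 1 := by
    have h8 : b⁻¹ * (n * (n * b * n⁻¹) * n⁻¹) = u⁻¹ * (n * n * u * (n * n)⁻¹) := by
      rw [h6, hub]
      group
    have h9 : b⁻¹ * (n * (n * b * n⁻¹) * n⁻¹) ∈ S := mul_mem (inv_mem hau) (hnS _ (hnS _ hau))
    refine F.inter_two hc hd hcd hA hM hSp (hSA h9) ?_ h9
    rw [h8]
    exact mul_mem (inv_mem hu) h5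
  have h10 : n * (n * b * n⁻¹) * n⁻¹ = b := (inv_mul_eq_one.1 h7).symm
  have h9 : Commute (n ^ 2) b := by
    change n ^ 2 * b = b * n ^ 2
    calc n ^ 2 * b = n * (n * b * n⁻¹) * n⁻¹ * n ^ 2 := by rw [pow_two]; group
      _ = b * n ^ 2 := by rw [h10]
  have h11 : Commute n b := by
    obtain ⟨k, hk⟩ := hodd
    have h12 : (n ^ 2) ^ (k + 1) = n := by
      rw [← pow_mul]
      have : 2 * (k + 1) = orderOf n + 1 := by omega
      rw [this, pow_succ, pow_orderOf_eq_one, one_mul]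
    rw [← h12]
    exact h9.pow_left _
  have h13 : b' = b := by
    rw [← hna', h11.eq]
    group
  have h14 : u = u' := by rw [hub, hub', h13]
  exact hu1 (F.inter_same hd hM hM' hMM hu (h14 ▸ hu') hu2)

end Cfsg.Agent.OddHalf.D3.Spread
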