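import Cfsg.Agent.OddHalf.D3.Spread.Main

/-!
# ODD D3b, n = 2, the case (F), in the frame `Fam 𝓒` (K-free)
-/

set_option autoImplicit false

namespace Cfsg.Agent.OddHalf.D3.Spread

open Subgroup Cfsg
open Cfsg.Agent.OddHalf.D3.ThreeDefs Cfsg.Agent.OddHalf.D3.ThreeFam

universe u

variable {G : Type u} [Group G]

/-- orders of "Sylow 2-subgroups" of subgroups of the same order -/
theorem card_eq_of_syl [Finite G] {S L S' L' : Subgroup G} (hSL : S ≤ L) (hSL' : S' ≤ L') (hS : IsPGroup 2 S)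
    (hS' : IsPGroup 2 S') (hi : ¬ 2 ∣ S.relIndex L) (hi' : ¬ 2 ∣ S'.relIndex L') (h : Nat.card L = Nat.card L') :
    Nat.card S = Nat.card S' := by
  haveI : Fact (Nat.Prime 2) := ⟨Nat.prime_two⟩
  have key : ∀ {S L S' L' : Subgroup G}, S ≤ L → S' ≤ L' → IsPGroup 2 S → ¬ 2 ∣ S'.relIndex L' →
      Nat.card L = Nat.card L' → Nat.card S ∣ Nat.card S' := by
    intro S L S' L' h1 h2 h3 h4 h5
    have h6 : Nat.card S' * S'.relIndex L' = Nat.card L' := by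
      rw [relIndex, ← Nat.card_congr (subgroupOfEquivOfLe h2).toEquiv]
      exact Subgroup.card_mul_index _
    have h7 : Nat.card S ∣ Nat.card S' * S'.relIndex L' := by
      rw [h6, ← h5]
      exact card_dvd_of_le h1
    obtain ⟨k, hk⟩ := IsPGroup.iff_card.1 h3
    rw [hk] at h7 ⊢
    exact (((Nat.Prime.coprime_iff_not_dvd Nat.prime_two).2 h4).pow_left k).dvd_of_dvd_mul_right h7
  exact Nat.dvd_antisymm (key hSL hSL' hS hi' h) (key hSL' hSL hS' hi h.symm)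

variable {𝓒 : Set (Set (Subgroup G))}

/-- Members with a common involution are equal. -/
theorem eq_of_inv (F : Fam 𝓒) {Λ Λ' : Set (Subgroup G)} (hΛ : Λ ∈ 𝓒) (hΛ' : Λ' ∈ 𝓒) {A B : Subgroup G}
    (hA : A ∈ Λ) (hB : B ∈ Λ') {x : G} (hxA : x ∈ A) (hxB : x ∈ B) (h2 : x * x = 1) (h1 : x ≠ 1) :
    Λ = Λ' ∧ A = B := by
  have h : Λ = Λ' := F.uniq Λ hΛ Λ' hΛ' x (F.inU_of_mem hΛ hA hxA h2 h1) (F.inU_of_mem hΛ' hB hxB h2 h1)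
  refine ⟨h, ?_⟩
  subst h
  by_contra hne
  exact h1 (F.inter_same hΛ hA hB hne hxA hxB h2)

/-- A 2-group meets the intersection of two different members trivially. -/
theorem inter_two' (F : Fam 𝓒) {Λ Λ' : Set (Subgroup G)} (hΛ : Λ ∈ 𝓒) (hΛ' : Λ' ∈ 𝓒) {A B T : Subgroup G}
    (hA : A ∈ Λ) (hB : B ∈ Λ') (hne : A ≠ B) (hT : IsPGroup 2 T) {c : G} (ha : c ∈ A) (hb : c ∈ B) (hc : c ∈ T) :
    c = 1 := by
  by_contra h1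
  obtain ⟨n, hn2, hn1⟩ := exists_pow_inv hT hc h1
  exact hne (eq_of_inv F hΛ hΛ' hA hB (pow_mem ha n) (pow_mem hb n) hn2 hn1).2

/-- **(F)** of #9195 (3) / #9609, K-free: two classes `Λ ≠ Λ'`, `Λ'` with exactly two members, the members simple with
abelian Sylow 2-subgroups; `T₁ T₂ ≤ S₁ S₂` for Sylow 2-subgroups `S₁, S₂` of two members of `Λ` and `T₁, T₂` of the
members of `Λ'` is impossible. -/
theorem false_of_spread [Finite G] (F : Fam 𝓒) {Λ Λ' : Set (Subgroup G)} (hΛ : Λ ∈ 𝓒) (hΛ' : Λ' ∈ 𝓒) (hne : Λ ≠ Λ')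
    {L₁ L₂ M₁ M₂ : Subgroup G} (hL₁ : L₁ ∈ Λ) (hL₂ : L₂ ∈ Λ) (hL : L₁ ≠ L₂) (hM₁ : M₁ ∈ Λ') (hM₂ : M₂ ∈ Λ')
    (hM : M₁ ≠ M₂) (htwo : ∀ B ∈ Λ', B = M₁ ∨ B = M₂) (hsimp : IsSimpleGroup L₁) {S₁ S₂ T₁ T₂ : Subgroup G}
    (hSL₁ : S₁ ≤ L₁) (hSL₂ : S₂ ≤ L₂) (hTM₁ : T₁ ≤ M₁) (hTM₂ : T₂ ≤ M₂)
    (hS₁ : IsPGroup 2 S₁) (hS₂ : IsPGroup 2 S₂) (hT₁ : IsPGroup 2 T₁) (hT₂ : IsPGroup 2 T₂)
    (hS₁i : ¬ 2 ∣ S₁.relIndex L₁) (hS₂i : ¬ 2 ∣ S₂.relIndex L₂) (hT₁i : ¬ 2 ∣ T₁.relIndex M₁)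
    (hT₂i : ¬ 2 ∣ T₂.relIndex M₂) (hab : ∀ x ∈ S₁, ∀ y ∈ S₁, x * y = y * x)
    (hV₁ : T₁ ≤ S₁ ⊔ S₂) (hV₂ : T₂ ≤ S₁ ⊔ S₂) : False := by
  haveI : Fact (Nat.Prime 2) := ⟨Nat.prime_two⟩
  have hc : ∀ x ∈ L₁, ∀ y ∈ L₂, x * y = y * x := F.comm Λ hΛ L₁ hL₁ L₂ hL₂ hL
  have hcard : ∀ {A B : Subgroup G} {Λ₁ Λ₂ : Set (Subgroup G)}, Λ₁ ∈ 𝓒 → Λ₂ ∈ 𝓒 → A ∈ Λ₁ → B ∈ Λ₂ →
      Nat.card A = Nat.card B := by
    intro A B Λ₁ Λ₂ h1 h2 hA hB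
    obtain ⟨g, hg⟩ := F.tr Λ₁ h1 Λ₂ h2 A hA B hB
    rw [← hg, card_cj]
  have hdec : ∀ y ∈ S₁ ⊔ S₂, ∃ a ∈ S₁, ∃ b ∈ S₂, y = a * b := by
    intro y hy
    have hcomm : S₁ ≤ normalizer (S₂ : Set G) := by
      intro x hx
      rw [mem_normalizer_iff]
      intro z
      have hxz : ∀ z ∈ S₂, x * z * x⁻¹ = z := by
        intro z hz
        rw [hc x (hSL₁ hx) z (hSL₂ hz)]
        group
      constructor
      · intro hz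
        rw [hxz z hz]
        exact hz
      · intro hz
        have h1 : x⁻¹ * (x * z * x⁻¹) = (x * z * x⁻¹) * x⁻¹ := hc x⁻¹ (inv_mem (hSL₁ hx)) _ (hSL₂ hz)
        have h2 : z = x * z * x⁻¹ := by
          calc z = x⁻¹ * (x * z * x⁻¹) * x := by group
            _ = (x * z * x⁻¹) * x⁻¹ * x := by rw [h1]
            _ = x * z * x⁻¹ := by group
        rw [h2]
        exact hz
    have h3 : y ∈ ((S₁ ⊔ S₂ : Subgroup G) : Set G) := hy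
    rw [Subgroup.coe_mul_of_left_le_normalizer_right S₁ S₂ hcomm] at h3
    obtain ⟨a, ha, b, hb, hab⟩ := Set.mem_mul.1 h3
    exact ⟨a, ha, b, hb, hab.symm⟩
  have hLM₁ : ∀ {A B : Subgroup G}, A ∈ Λ → B ∈ Λ' → A ≠ B := by
    rintro A _ hA hB rfl
    obtain ⟨a, ha, h2, h1⟩ := F.inv Λ hΛ A hA
    exact hne (eq_of_inv F hΛ hΛ' hA hB ha ha h2 h1).1
  have hmem : ∀ g, cjs g Λ' ∈ 𝓒 := fun g => F.conj g Λ' hΛ'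
  obtain ⟨a₀, ha₀, ha₀2, ha₀1⟩ := F.inv Λ hΛ L₁ hL₁
  refine false_core (L₁ := L₁) (L₂ := L₂) (M₁ := M₁) (M₂ := M₂) hc (F.cent Λ hΛ L₁ hL₁) hSL₁ hSL₂ hTM₁ hTM₂ hS₁ hS₁i
    hab ?_ (fun y hy => hdec y (hV₁ hy)) (fun y hy => hdec y (hV₂ hy))
    (card_eq_of_syl hSL₁ hTM₁ hS₁ hT₁ hS₁i hT₁i (hcard hΛ hΛ' hL₁ hM₁)).le
    (card_eq_of_syl hSL₂ hTM₂ hS₂ hT₂ hS₂i hT₂i (hcard hΛ hΛ' hL₂ hM₂)).le
    (fun c h1 h2 => inter_two' F hΛ hΛ' hL₁ hM₁ (hLM₁ hL₁ hM₁) hS₁ (hSL₁ h1) h2 h1)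
    (fun c h1 h2 => inter_two' F hΛ hΛ' hL₁ hM₂ (hLM₁ hL₁ hM₂) hS₁ (hSL₁ h1) h2 h1)
    (fun c h1 h2 => inter_two' F hΛ hΛ' hL₂ hM₁ (hLM₁ hL₂ hM₁) hS₂ (hSL₂ h1) h2 h1)
    (fun c h1 h2 => inter_two' F hΛ hΛ' hL₂ hM₂ (hLM₁ hL₂ hM₂) hS₂ (hSL₂ h1) h2 h1)
    (fun c h1 h2 => inter_two' F hΛ' hΛ' hM₂ hM₁ hM.symm hT₂ (hTM₂ h1) h2 h1)
    (fun g _ x hx h2 h1 hxg => (eq_of_inv F (hmem g) hΛ' (cj_mem_cjs hM₁) hM₁ hxg hx h2 h1).2)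
    (fun g _ x hx h2 h1 hxg => (eq_of_inv F (hmem g) hΛ' (cj_mem_cjs hM₁) hM₂ hxg hx h2 h1).2) ?_
  · -- an involution in `S₁`
    have h1 : IsPGroup 2 (zpowers a₀) := by
      rintro ⟨y, hy⟩
      obtain ⟨z, rfl⟩ := mem_zpowers_iff.1 hy
      refine ⟨1, Subtype.ext ?_⟩
      change (a₀ ^ z) ^ 2 ^ 1 = 1
      rw [← zpow_natCast, ← zpow_mul, mul_comm, zpow_mul, zpow_natCast, pow_one, pow_two, ha₀2, one_zpow]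
    obtain ⟨m, hm, hmP⟩ := Cfsg.Agent.Lib.GoldschmidtFusion.exists_conj_le_in (p := 2) hS₁ hS₁i
      (by rwa [zpowers_le]) h1
    refine ⟨m * a₀ * m⁻¹, hmP ⟨a₀, mem_zpowers a₀, rfl⟩, ?_, ?_⟩
    · calc m * a₀ * m⁻¹ * (m * a₀ * m⁻¹) = m * (a₀ * a₀) * m⁻¹ := by group
        _ = 1 := by rw [ha₀2]; group
    · intro h
      apply ha₀1
      have := congrArg (fun x => m⁻¹ * x * m) h
      simpa [mul_assoc] using this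
  · intro g _ hg
    obtain ⟨x, hx, h2, h1⟩ := F.inv Λ' hΛ' M₂ hM₂
    have h3 : cjs g Λ' = Λ' := by
      refine (eq_of_inv F (hmem g) hΛ' (cj_mem_cjs hM₁) hM₂ ?_ hx h2 h1).1
      rw [hg]
      exact hx
    have h4 : cj g M₂ ∈ Λ' := by
      rw [← h3]
      exact cj_mem_cjs hM₂
    rcases htwo _ h4 with h | h
    · exact h
    · exfalso
      exact hM (cj_injective g (hg.trans h.symm))

end Cfsg.Agent.OddHalf.D3.Spread
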