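import Cfsg.Agent.OddHalf.D3.Spread.OneClass
import Cfsg.Agent.OddHalf.D3.ThreeFam

/-!
# ODD D3b, n = 2, the case (F): `S_K` abelian, all four members full

`L₁, L₂` and `M₁, M₂` are two pairs of commuting subgroups, `L₁` simple with abelian Sylow 2-subgroup `S₁`, and the
Sylow 2-subgroups `T₁, T₂` of `M₁, M₂` lie in `S₁ S₂`. Then `T₁` and `T₂` are graphs of isomorphisms `S₁ ≃ S₂`. The
stabiliser of `M₁` in `L₁` contains the centralizers of all the involutions of `S₁`, hence these are conjugate under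
elements of odd order of `N_{L₁}(S₁)`; such an element `n` with `(ab)^n = a'b`, `ab ∈ T₁`, `a'b ∈ T₂` maps `M₁` to `M₂`
and `M₂` to `M₁`, so `n²` fixes `M₁`, centralises `a`, and so does `n`: contradiction.
-/

set_option autoImplicit false

namespace Cfsg.Agent.OddHalf.D3.Spread

open Subgroup Cfsg
open Cfsg.Agent.OddHalf.D3.ThreeDefs

section core

variable {G : Type*} [Group G] [Finite G]

theorem exists_left {S₁ S₂ T : Subgroup G} (hV : ∀ y ∈ T, ∃ a ∈ S₁, ∃ b ∈ S₂, y = a * b)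
    (h : ∀ c ∈ T, c ∈ S₂ → c = 1) (hcard : Nat.card S₁ ≤ Nat.card T) {a : G} (ha : a ∈ S₁) :
    ∃ b ∈ S₂, a * b ∈ T := by
  choose f hf g hg hfg using hV
  let F : T → S₁ := fun y => ⟨f y y.2, hf y y.2⟩
  have hF : Function.Injective F := by
    rintro ⟨y, hy⟩ ⟨z, hz⟩ hyz
    have h1 : f y hy = f z hz := congrArg Subtype.val hyz
    have h2 : y⁻¹ * z = (g y hy)⁻¹ * g z hz := by
      conv_lhs => rw [hfg y hy, hfg z hz, h1]
      group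
    have h3 : y⁻¹ * z = 1 := by
      apply h _ (mul_mem (inv_mem hy) hz)
      rw [h2]
      exact mul_mem (inv_mem (hg y hy)) (hg z hz)
    exact Subtype.ext (inv_mul_eq_one.1 h3)
  obtain ⟨⟨y, hy⟩, hya⟩ := (hF.bijective_of_nat_card_le hcard).2 ⟨a, ha⟩
  have h1 : f y hy = a := congrArg Subtype.val hya
  refine ⟨g y hy, hg y hy, ?_⟩
  rw [← h1, ← hfg y hy]
  exact hy

theorem exists_right {S₁ S₂ T : Subgroup G} (hV : ∀ y ∈ T, ∃ a ∈ S₁, ∃ b ∈ S₂, y = a * b)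
    (h : ∀ c ∈ T, c ∈ S₁ → c = 1) (hcard : Nat.card S₂ ≤ Nat.card T) {b : G} (hb : b ∈ S₂) :
    ∃ a ∈ S₁, a * b ∈ T := by
  choose f hf g hg hfg using hV
  let F : T → S₂ := fun y => ⟨g y y.2, hg y y.2⟩
  have hF : Function.Injective F := by
    rintro ⟨y, hy⟩ ⟨z, hz⟩ hyz
    have h1 : g y hy = g z hz := congrArg Subtype.val hyz
    have h2 : y * z⁻¹ = f y hy * (f z hz)⁻¹ := by
      conv_lhs => rw [hfg y hy, hfg z hz, h1]
      group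
    have h3 : y * z⁻¹ = 1 := by
      apply h _ (mul_mem hy (inv_mem hz))
      rw [h2]
      exact mul_mem (hf y hy) (inv_mem (hf z hz))
    exact Subtype.ext (mul_inv_eq_one.1 h3)
  obtain ⟨⟨y, hy⟩, hya⟩ := (hF.bijective_of_nat_card_le hcard).2 ⟨b, hb⟩
  have h1 : g y hy = b := congrArg Subtype.val hya
  refine ⟨f y hy, hf y hy, ?_⟩
  rw [← h1, ← hfg y hy]
  exact hy

/-- **(F)**, core version. -/
theorem false_core {L₁ L₂ M₁ M₂ S₁ S₂ T₁ T₂ : Subgroup G} [IsSimpleGroup L₁]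
    (hc : ∀ x ∈ L₁, ∀ y ∈ L₂, x * y = y * x)
    (hcent : ∀ a ∈ L₁, a * a = 1 → (∀ b ∈ L₁, a * b = b * a) → a = 1)
    (hSL₁ : S₁ ≤ L₁) (hSL₂ : S₂ ≤ L₂) (hTM₁ : T₁ ≤ M₁) (hTM₂ : T₂ ≤ M₂)
    (hS₁ : IsPGroup 2 S₁) (hS₁i : ¬ 2 ∣ S₁.relIndex L₁) (hab : ∀ x ∈ S₁, ∀ y ∈ S₁, x * y = y * x)
    (hinv : ∃ a ∈ S₁, a * a = 1 ∧ a ≠ 1)
    (hV₁ : ∀ y ∈ T₁, ∃ a ∈ S₁, ∃ b ∈ S₂, y = a * b) (hV₂ : ∀ y ∈ T₂, ∃ a ∈ S₁, ∃ b ∈ S₂, y = a * b)
    (hcard₁ : Nat.card S₁ ≤ Nat.card T₁) (hcard₂ : Nat.card S₂ ≤ Nat.card T₂)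
    (h11 : ∀ c ∈ S₁, c ∈ M₁ → c = 1) (h12 : ∀ c ∈ S₁, c ∈ M₂ → c = 1)
    (h21 : ∀ c ∈ S₂, c ∈ M₁ → c = 1) (h22 : ∀ c ∈ S₂, c ∈ M₂ → c = 1)
    (hM : ∀ c ∈ T₂, c ∈ M₁ → c = 1)
    (hTI : ∀ g ∈ L₁, ∀ x ∈ M₁, x * x = 1 → x ≠ 1 → x ∈ cj g M₁ → cj g M₁ = M₁)
    (hTI' : ∀ g ∈ L₁, ∀ x ∈ M₂, x * x = 1 → x ≠ 1 → x ∈ cj g M₁ → cj g M₁ = M₂)
    (hsw : ∀ g ∈ L₁, cj g M₁ = M₂ → cj g M₂ = M₁) : False := by
  haveI : Fact (Nat.Prime 2) := ⟨Nat.prime_two⟩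
  have hc' : ∀ x ∈ S₁, ∀ y ∈ S₂, x * y = y * x := fun x hx y hy => hc x (hSL₁ hx) y (hSL₂ hy)
  -- the element of `T₁` over an involution of `S₁`
  have key : ∀ a ∈ S₁, a * a = 1 → a ≠ 1 → ∃ b ∈ S₂, a * b ∈ T₁ ∧ b * b = 1 ∧ b ≠ 1 ∧
      a * b * (a * b) = 1 ∧ a * b ≠ 1 := by
    intro a ha haa ha1
    obtain ⟨b, hb, hy⟩ := exists_left hV₁ (fun c hcT hcS => h21 c hcS (hTM₁ hcT)) hcard₁ ha
    have h1 : a * b * (a * b) = b * b := by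
      calc a * b * (a * b) = a * (b * a) * b := by group
        _ = a * (a * b) * b := by rw [hc' a ha b hb]
        _ = (a * a) * (b * b) := by group
        _ = b * b := by rw [haa, one_mul]
    have h2 : b * b = 1 := h21 _ (mul_mem hb hb) (h1 ▸ hTM₁ (mul_mem hy hy))
    have h3 : b ≠ 1 := by
      intro h
      rw [h, mul_one] at hy
      exact ha1 (h11 a ha (hTM₁ hy))
    refine ⟨b, hb, hy, h2, h3, h1.trans h2, ?_⟩
    intro h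
    apply ha1
    apply hcent a (hSL₁ ha) haa
    intro x hx
    have h4 : a = b⁻¹ := mul_eq_one_iff_eq_inv.1 h
    rw [h4]
    exact (hc x hx _ (inv_mem (hSL₂ hb))).symm
  have hcen : ∀ a ∈ S₁, a * a = 1 → a ≠ 1 → ∀ c ∈ L₁, c * a = a * c → cj c M₁ = M₁ := by
    intro a ha haa ha1 c hcL hca
    obtain ⟨b, hb, hy, -, -, hyy, hy1⟩ := key a ha haa ha1
    apply hTI c hcL _ (hTM₁ hy) hyy hy1
    rw [mem_cj]
    have h1 : c⁻¹ * (a * b) * c = a * b := by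
      have h2 := hc c hcL b (hSL₂ hb)
      calc c⁻¹ * (a * b) * c = c⁻¹ * (a * (b * c)) := by group
        _ = c⁻¹ * (a * (c * b)) := by rw [h2]
        _ = c⁻¹ * (a * c) * b := by group
        _ = c⁻¹ * (c * a) * b := by rw [hca]
        _ = a * b := by group
    rw [h1]
    exact hTM₁ hy
  obtain ⟨a₁, ha₁, ha₁a, ha₁1⟩ := hinv
  obtain ⟨b, hb, hy, hbb, hb1, hyy, hy1⟩ := key a₁ ha₁ ha₁a ha₁1
  -- the stabiliser
  let Y : Subgroup L₁ :=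
    { carrier := {g | cj (g : G) M₁ = M₁}
      one_mem' := cj_one M₁
      mul_mem' := fun {g h} hg hh => cj_mul_eq hg hh
      inv_mem' := fun {g} hg => cj_inv_eq hg }
  have hmemY : ∀ g : L₁, g ∈ Y ↔ cj (g : G) M₁ = M₁ := fun g => Iff.rfl
  have hYtop : Y ≠ ⊤ := by
    intro htop
    have hall : ∀ g ∈ L₁, cj g M₁ = M₁ := fun g hg => (hmemY ⟨g, hg⟩).1 (htop ▸ mem_top _)
    -- `M₁ ⊓ L₁` is normal in `L₁`
    have hnorm : (M₁.subgroupOf L₁).Normal := by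
      constructor
      intro n hn g
      rw [mem_subgroupOf] at hn ⊢
      have := conj_mem_cj (g := (g : G)) hn
      rwa [hall g g.2] at this
    rcases hnorm.eq_bot_or_eq_top with h | h
    · -- `a₁` is central in `L₁`
      apply ha₁1
      apply hcent a₁ (hSL₁ ha₁) ha₁a
      intro g hg
      have h1 : (a₁ * b)⁻¹ * (g * (a₁ * b) * g⁻¹) ∈ M₁ := by
        refine mul_mem (inv_mem (hTM₁ hy)) ?_
        have := conj_mem_cj (g := g) (hTM₁ hy)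
        rwa [hall g hg] at this
      have h2 : (a₁ * b)⁻¹ * (g * (a₁ * b) * g⁻¹) = a₁⁻¹ * (g * a₁ * g⁻¹) := by
        have e1 := hc g⁻¹ (inv_mem hg) b (hSL₂ hb)
        have e2 := hc (a₁⁻¹ * (g * a₁ * g⁻¹)) (mul_mem (inv_mem (hSL₁ ha₁)) (mul_mem (mul_mem hg (hSL₁ ha₁)) (inv_mem hg)))
          b (hSL₂ hb)
        calc (a₁ * b)⁻¹ * (g * (a₁ * b) * g⁻¹) = b⁻¹ * (a₁⁻¹ * (g * a₁ * (b * g⁻¹))) := by group
          _ = b⁻¹ * (a₁⁻¹ * (g * a₁ * (g⁻¹ * b))) := by rw [e1]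
          _ = b⁻¹ * ((a₁⁻¹ * (g * a₁ * g⁻¹)) * b) := by group
          _ = b⁻¹ * (b * (a₁⁻¹ * (g * a₁ * g⁻¹))) := by rw [e2]
          _ = a₁⁻¹ * (g * a₁ * g⁻¹) := by group
      rw [h2] at h1
      have h3 : (⟨a₁⁻¹ * (g * a₁ * g⁻¹), mul_mem (inv_mem (hSL₁ ha₁))
          (mul_mem (mul_mem hg (hSL₁ ha₁)) (inv_mem hg))⟩ : L₁) ∈ M₁.subgroupOf L₁ := h1
      rw [h, mem_bot] at h3
      have h4 : a₁⁻¹ * (g * a₁ * g⁻¹) = 1 := congrArg Subtype.val h3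
      calc a₁ * g = a₁ * (a₁⁻¹ * (g * a₁ * g⁻¹)) * g := by rw [h4, mul_one]
        _ = g * a₁ := by group
    · have h1 : (⟨a₁, hSL₁ ha₁⟩ : L₁) ∈ M₁.subgroupOf L₁ := by rw [h]; exact mem_top _
      exact ha₁1 (h11 a₁ ha₁ h1)
  -- the Sylow subgroup
  let P : Sylow 2 L₁ := IsPGroup.toSylow (P := S₁.subgroupOf L₁) (hS₁.comap_subtype) hS₁i
  have hP : ∀ x : L₁, x ∈ (P : Subgroup L₁) ↔ (x : G) ∈ S₁ := fun x => Iff.rfl
  -- the second element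
  obtain ⟨a₂, ha₂, hz⟩ := exists_right hV₂ (fun c hcT hcS => h12 c hcS (hTM₂ hcT)) hcard₂ hb
  have hzz' : a₂ * b * (a₂ * b) = a₂ * a₂ := by
    calc a₂ * b * (a₂ * b) = a₂ * (b * a₂) * b := by group
      _ = a₂ * (a₂ * b) * b := by rw [hc' a₂ ha₂ b hb]
      _ = (a₂ * a₂) * (b * b) := by group
      _ = a₂ * a₂ := by rw [hbb, mul_one]
  have ha₂a : a₂ * a₂ = 1 := h12 _ (mul_mem ha₂ ha₂) (hzz' ▸ hTM₂ (mul_mem hz hz))
  have ha₂1 : a₂ ≠ 1 := by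
    intro h
    rw [h, one_mul] at hz
    exact hb1 (h22 b hb (hTM₂ hz))
  obtain ⟨⟨n, hnL⟩, hn, hodd, hna⟩ := exists_odd_conj_inv P
    (fun x hx y hy => Subtype.ext (hab x ((hP x).1 hx) y ((hP y).1 hy))) hYtop
    (fun a ha haa ha1 c hca => (hmemY c).2 (hcen a ((hP a).1 ha) (congrArg Subtype.val haa)
      (fun h => ha1 (Subtype.ext h)) c c.2 (congrArg Subtype.val (mem_centralizer_singleton_iff.1 hca))))
    (a := ⟨a₁, hSL₁ ha₁⟩) (b := ⟨a₂, hSL₁ ha₂⟩) ((hP _).2 ha₁) (Subtype.ext ha₁a)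
    (fun h => ha₁1 (congrArg Subtype.val h)) ((hP _).2 ha₂) (Subtype.ext ha₂a)
    (fun h => ha₂1 (congrArg Subtype.val h))
  have hna' : n * a₁ * n⁻¹ = a₂ := congrArg Subtype.val hna
  rw [orderOf_mk] at hodd
  have hnS : ∀ x ∈ S₁, n * x * n⁻¹ ∈ S₁ := by
    intro x hx
    exact (hP _).1 ((mem_normalizer_iff.1 hn ⟨x, hSL₁ hx⟩).1 ((hP _).2 hx))
  have hnb : n * b = b * n := hc n hnL b (hSL₂ hb)
  have hny : n * (a₁ * b) * n⁻¹ = a₂ * b := by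
    calc n * (a₁ * b) * n⁻¹ = n * a₁ * (b * n) * n⁻¹ * n⁻¹ := by group
      _ = n * a₁ * (n * b) * n⁻¹ * n⁻¹ := by rw [hnb]
      _ = n * a₁ * n⁻¹ * (n * (n * b) * n⁻¹ * n⁻¹) := by group
      _ = a₂ * (n * (n * b) * n⁻¹ * n⁻¹) := by rw [hna']
      _ = a₂ * (n * (b * n) * n⁻¹ * n⁻¹) := by rw [hnb]
      _ = a₂ * ((n * b) * n⁻¹) := by group
      _ = a₂ * b := by rw [hnb]; group
  have hz1 : a₂ * b ≠ 1 := by
    intro h
    apply hy1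
    calc a₁ * b = n⁻¹ * (n * (a₁ * b) * n⁻¹) * n := by group
      _ = 1 := by rw [hny, h]; group
  have hMM : cj n M₁ = M₂ := by
    apply hTI' n hnL _ (hTM₂ hz) (hzz'.trans ha₂a) hz1
    rw [← hny]
    exact conj_mem_cj (hTM₁ hy)
  have hMM' : cj (n * n) M₁ = M₁ := by rw [cj_mul, hMM, hsw n hnL hMM]
  -- `n²` centralises `a₁`
  have h5 : n * n * (a₁ * b) * (n * n)⁻¹ ∈ M₁ := by
    have := conj_mem_cj (g := n * n) (hTM₁ hy)
    rwa [hMM'] at this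
  have h6 : n * n * (a₁ * b) * (n * n)⁻¹ = (n * (n * a₁ * n⁻¹) * n⁻¹) * b := by
    have hnb2 : n * n * b = b * (n * n) := by
      calc n * n * b = n * (n * b) := mul_assoc _ _ _
        _ = n * (b * n) := by rw [hnb]
        _ = n * b * n := (mul_assoc _ _ _).symm
        _ = b * n * n := by rw [hnb]
        _ = b * (n * n) := mul_assoc _ _ _
    calc n * n * (a₁ * b) * (n * n)⁻¹ = n * (n * a₁ * n⁻¹) * n⁻¹ * ((n * n * b) * (n * n)⁻¹) := by group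
      _ = n * (n * a₁ * n⁻¹) * n⁻¹ * (b * (n * n) * (n * n)⁻¹) := by rw [hnb2]
      _ = _ := by group
  have ha₃ : n * (n * a₁ * n⁻¹) * n⁻¹ ∈ S₁ := hnS _ (hnS _ ha₁)
  have h7 : n * (n * a₁ * n⁻¹) * n⁻¹ * a₁⁻¹ = 1 := by
    apply h11 _ (mul_mem ha₃ (inv_mem ha₁))
    have h8 : n * (n * a₁ * n⁻¹) * n⁻¹ * a₁⁻¹ = n * n * (a₁ * b) * (n * n)⁻¹ * (a₁ * b)⁻¹ := by
      rw [h6]
      group
    rw [h8]
    exact mul_mem h5 (inv_mem (hTM₁ hy))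
  have h9 : Commute (n ^ 2) a₁ := by
    change n ^ 2 * a₁ = a₁ * n ^ 2
    have h10 := mul_inv_eq_one.1 h7
    calc n ^ 2 * a₁ = n * (n * a₁ * n⁻¹) * n⁻¹ * n ^ 2 := by rw [pow_two]; group
      _ = a₁ * n ^ 2 := by rw [h10]
  have h11' : Commute n a₁ := by
    obtain ⟨k, hk⟩ := hodd
    have h12 : (n ^ 2) ^ (k + 1) = n := by
      rw [← pow_mul]
      have : 2 * (k + 1) = orderOf n + 1 := by omega
      rw [this, pow_succ, pow_orderOf_eq_one, one_mul]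
    rw [← h12]
    exact h9.pow_left _
  have h13 : a₂ = a₁ := by
    rw [← hna', h11'.eq]
    group
  apply hz1
  exact hM _ hz (h13 ▸ hTM₁ hy)

end core

end Cfsg.Agent.OddHalf.D3.Spread
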