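import Cfsg.Agent.TwoFusion.StronglyEmbeddedBasic
import Cfsg.Agent.Lib.GoldschmidtFusion

/-!
# Simple groups with an abelian Sylow 2-subgroup `P`: one class of involutions

If a proper subgroup contains the centralizers of all the involutions of `P`, then all the involutions of `P` are
conjugate in the simple group `K`, under elements of odd order of `N(P)`.
-/

set_option autoImplicit false
set_option linter.style.haveILetI false

namespace Cfsg.Agent.OddHalf.D3.Spread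

open Subgroup Cfsg

/-- the odd part of an element -/
theorem exists_odd_pow {K : Type*} [Group K] [Finite K] (n : K) :
    ∃ i : ℕ, Odd (orderOf (n ^ i)) ∧ ∃ j : ℕ, (n⁻¹ * n ^ i) ^ 2 ^ j = 1 := by
  obtain ⟨k, s, hs, hks⟩ := Nat.exists_eq_two_pow_mul_odd (orderOf_pos n).ne'
  -- i = 2 ^ t with 2 ^ t ≡ 1 mod s, t ≥ k
  have hcop : Nat.Coprime 2 s := (Nat.coprime_two_left.2 hs)
  refine ⟨2 ^ (Nat.totient s * (k + 1)), ?_, k, ?_⟩
  · have hle : k ≤ Nat.totient s * (k + 1) := by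
      have : 1 ≤ Nat.totient s := Nat.totient_pos.2 hs.pos
      nlinarith
    have h1 : (n ^ 2 ^ (Nat.totient s * (k + 1))) ^ s = 1 := by
      rw [← pow_mul]
      apply orderOf_dvd_iff_pow_eq_one.1
      rw [hks]
      exact Nat.mul_dvd_mul_right (pow_dvd_pow 2 hle) s
    exact hs.of_dvd_nat (orderOf_dvd_of_pow_eq_one h1)
  · have h2 : s ∣ 2 ^ (Nat.totient s * (k + 1)) - 1 := by
      have h3 : 2 ^ (Nat.totient s * (k + 1)) ≡ 1 [MOD s] := by
        rw [pow_mul]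
        have := (Nat.ModEq.pow_totient hcop).pow (k + 1)
        rwa [one_pow] at this
      exact (Nat.modEq_iff_dvd' Nat.one_le_two_pow).1 h3.symm
    have h4 : n⁻¹ * n ^ 2 ^ (Nat.totient s * (k + 1)) = n ^ (2 ^ (Nat.totient s * (k + 1)) - 1) := by
      have h5 : 2 ^ (Nat.totient s * (k + 1)) = (2 ^ (Nat.totient s * (k + 1)) - 1) + 1 :=
        (Nat.sub_add_cancel Nat.one_le_two_pow).symm
      rw [inv_mul_eq_iff_eq_mul, ← pow_succ', ← h5]
    rw [h4, ← pow_mul]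
    apply orderOf_dvd_iff_pow_eq_one.1
    rw [hks, mul_comm]
    exact Nat.mul_dvd_mul_right h2 _

section main

variable {K : Type*} [Group K] [Finite K] (P : Sylow 2 K)

omit [Finite K] in
/-- 2-elements of `N(P)` lie in `P`. -/
theorem mem_of_two_element {x : K} (hx : x ∈ normalizer ((P : Subgroup K) : Set K)) {j : ℕ}
    (hxj : x ^ 2 ^ j = 1) : x ∈ (P : Subgroup K) := by
  have h1 : IsPGroup 2 (zpowers x) := by
    rintro ⟨y, hy⟩
    obtain ⟨z, rfl⟩ := mem_zpowers_iff.1 hy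
    refine ⟨j, Subtype.ext ?_⟩
    change (x ^ z) ^ 2 ^ j = 1
    rw [← zpow_natCast, ← zpow_mul, mul_comm, zpow_mul, zpow_natCast, hxj, one_zpow]
  have h2 := IsPGroup.to_sup_of_normal_left' P.isPGroup' h1 (by rwa [zpowers_le])
  have h3 := P.is_maximal' h2 le_sup_left
  have h4 : zpowers x ≤ (P : Subgroup K) := by
    rw [← h3]
    exact le_sup_right
  exact h4 (mem_zpowers x)

variable (hab : ∀ x ∈ (P : Subgroup K), ∀ y ∈ (P : Subgroup K), x * y = y * x)
include hab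

/-- fusion of two elements of `P` by an element of odd order of `N(P)` -/
theorem exists_odd_conj {a b : K} (ha : a ∈ (P : Subgroup K)) (hb : b ∈ (P : Subgroup K))
    (h : IsConj a b) : ∃ n ∈ normalizer ((P : Subgroup K) : Set K), Odd (orderOf n) ∧ n * a * n⁻¹ = b := by
  haveI : Fact (Nat.Prime 2) := ⟨Nat.prime_two⟩
  haveI : IsMulCommutative (P : Subgroup K) := ⟨⟨fun x y => Subtype.ext (hab x x.2 y y.2)⟩⟩
  obtain ⟨g, hg⟩ := isConj_iff.1 h
  obtain ⟨m, hm, hmg⟩ := P.conj_eq_normalizer_conj_of_mem a g⁻¹ ha (by rw [inv_inv, hg]; exact hb)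
  rw [inv_inv, hg] at hmg
  obtain ⟨i, hi, j, hj⟩ := exists_odd_pow m⁻¹
  have hm' : m⁻¹ ∈ normalizer ((P : Subgroup K) : Set K) := inv_mem hm
  have h1 : (m⁻¹)⁻¹ * m⁻¹ ^ i ∈ (P : Subgroup K) :=
    mem_of_two_element P (mul_mem (inv_mem hm') (pow_mem hm' i)) hj
  refine ⟨m⁻¹ ^ i, pow_mem hm' i, hi, ?_⟩
  have h2 : (m⁻¹)⁻¹ * m⁻¹ ^ i * a = a * ((m⁻¹)⁻¹ * m⁻¹ ^ i) := hab _ h1 _ ha
  calc m⁻¹ ^ i * a * (m⁻¹ ^ i)⁻¹ = m⁻¹ * ((m⁻¹)⁻¹ * m⁻¹ ^ i * a) * (m⁻¹ ^ i)⁻¹ := by group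
    _ = m⁻¹ * (a * ((m⁻¹)⁻¹ * m⁻¹ ^ i)) * (m⁻¹ ^ i)⁻¹ := by rw [h2]
    _ = m⁻¹ * a * m := by group
    _ = b := hmg.symm

/-- A subgroup `M ≠ ⊤` containing `N(P)` and the centralizers of the involutions of `P` is strongly embedded. -/
theorem stronglyEmbedded {M : Subgroup K} (hM : M ≠ ⊤) (hN : normalizer ((P : Subgroup K) : Set K) ≤ M)
    (hC : ∀ a ∈ (P : Subgroup K), a * a = 1 → a ≠ 1 → centralizer {a} ≤ M) {a : K}
    (ha : a ∈ (P : Subgroup K)) (haa : a * a = 1) (ha1 : a ≠ 1) : IsStronglyEmbedded M := by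
  haveI : Fact (Nat.Prime 2) := ⟨Nat.prime_two⟩
  have hPM : (P : Subgroup K) ≤ M := le_normalizer.trans hN
  have hidx : ¬ 2 ∣ (P : Subgroup K).relIndex M := by
    intro h
    exact P.not_dvd_index (h.trans (relIndex_dvd_index_of_le hPM))
  have hord : ∀ v : K, orderOf v = 2 → v * v = 1 ∧ v ≠ 1 := by
    intro v hv
    refine ⟨?_, ?_⟩
    · have := pow_orderOf_eq_one v
      rwa [hv, pow_two] at this
    · rintro rfl
      rw [orderOf_one] at hv
      omega
  -- every involution of `M` is `M`-conjugate to an involution of `P`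
  have hconj : ∀ v ∈ M, v * v = 1 → v ≠ 1 → ∃ m ∈ M, ∃ b ∈ (P : Subgroup K), b * b = 1 ∧ b ≠ 1 ∧
      m * b * m⁻¹ = v := by
    intro v hv hvv hv1
    have h1 : IsPGroup 2 (zpowers v) := by
      rintro ⟨y, hy⟩
      obtain ⟨z, rfl⟩ := mem_zpowers_iff.1 hy
      refine ⟨1, Subtype.ext ?_⟩
      change (v ^ z) ^ 2 ^ 1 = 1
      rw [← zpow_natCast, ← zpow_mul, mul_comm, zpow_mul, zpow_natCast, pow_one, pow_two, hvv, one_zpow]
    obtain ⟨m, hm, hmP⟩ := Cfsg.Agent.Lib.GoldschmidtFusion.exists_conj_le_in (p := 2) P.isPGroup' hidx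
      (by rwa [zpowers_le]) h1
    refine ⟨m⁻¹, inv_mem hm, m * v * m⁻¹, hmP ⟨v, mem_zpowers v, rfl⟩, ?_, ?_, by group⟩
    · calc m * v * m⁻¹ * (m * v * m⁻¹) = m * (v * v) * m⁻¹ := by group
        _ = 1 := by rw [hvv]; group
    · intro h
      apply hv1
      have := congrArg (fun x => m⁻¹ * x * m) h
      simpa [mul_assoc] using this
  have hcen : ∀ v ∈ M, v * v = 1 → v ≠ 1 → centralizer {v} ≤ M := by
    intro v hv hvv hv1
    obtain ⟨m, hm, b, hb, hbb, hb1, rfl⟩ := hconj v hv hvv hv1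
    intro x hx
    rw [mem_centralizer_singleton_iff] at hx
    have h1 : m⁻¹ * x * m ∈ centralizer {b} := by
      rw [mem_centralizer_singleton_iff]
      calc m⁻¹ * x * m * b = m⁻¹ * (x * (m * b * m⁻¹)) * m := by group
        _ = m⁻¹ * (m * b * m⁻¹ * x) * m := by rw [hx]
        _ = b * (m⁻¹ * x * m) := by group
    have h2 := mul_mem (mul_mem hm (hC b hb hbb hb1 h1)) (inv_mem hm)
    have e : m * (m⁻¹ * x * m) * m⁻¹ = x := by group
    rwa [e] at h2
  refine ⟨hM, ?_, ?_⟩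
  · have h1 : orderOf a = 2 := orderOf_eq_prime (by rw [pow_two, haa]) ha1
    have h2 := orderOf_dvd_natCard (⟨a, hPM ha⟩ : M)
    rw [orderOf_mk, h1] at h2
    exact even_iff_two_dvd.2 h2
  · intro g hg
    by_contra hodd
    have heven : 2 ∣ Nat.card ↥(M ⊓ M.map (MulAut.conj g).toMonoidHom) := by
      rw [Nat.odd_iff] at hodd
      omega
    obtain ⟨⟨v, hv⟩, hv2⟩ := exists_prime_orderOf_dvd_card' 2 heven
    rw [orderOf_mk] at hv2
    obtain ⟨hvv, hv1⟩ := hord v hv2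
    obtain ⟨w, hw, hwv⟩ := hv.2
    have hwv' : g * w * g⁻¹ = v := hwv
    have hw' : w = g⁻¹ * v * g := by rw [← hwv']; group
    have hww : w * w = 1 := by
      rw [hw']
      calc g⁻¹ * v * g * (g⁻¹ * v * g) = g⁻¹ * (v * v) * g := by group
        _ = 1 := by rw [hvv]; group
    have hw1 : w ≠ 1 := by
      rintro rfl
      apply hv1
      rw [← hwv']
      group
    obtain ⟨m, hm, b, hb, hbb, hb1, hmb⟩ := hconj v hv.1 hvv hv1
    -- the conjugate of `P` by `m` centralises `v`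
    have hD : (P : Subgroup K).map (MulAut.conj (g⁻¹ * m)).toMonoidHom ≤ M := by
      rintro _ ⟨x, hx, rfl⟩
      change g⁻¹ * m * x * (g⁻¹ * m)⁻¹ ∈ M
      apply hcen w hw hww hw1
      rw [mem_centralizer_singleton_iff, hw', ← hmb]
      have := hab x hx b hb
      calc g⁻¹ * m * x * (g⁻¹ * m)⁻¹ * (g⁻¹ * (m * b * m⁻¹) * g) = g⁻¹ * m * (x * b) * m⁻¹ * g := by group
        _ = g⁻¹ * m * (b * x) * m⁻¹ * g := by rw [this]
        _ = g⁻¹ * (m * b * m⁻¹) * g * (g⁻¹ * m * x * (g⁻¹ * m)⁻¹) := by group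
    obtain ⟨n, hn, hnP⟩ := Cfsg.Agent.Lib.GoldschmidtFusion.exists_conj_le_in (p := 2) P.isPGroup' hidx
      hD (P.isPGroup'.map _)
    have h3 : (P : Subgroup K).map (MulAut.conj (n * (g⁻¹ * m))).toMonoidHom ≤ (P : Subgroup K) := by
      rintro _ ⟨x, hx, rfl⟩
      have := hnP ⟨_, ⟨x, hx, rfl⟩, rfl⟩
      change n * (g⁻¹ * m * x * (g⁻¹ * m)⁻¹) * n⁻¹ ∈ (P : Subgroup K) at this
      change n * (g⁻¹ * m) * x * (n * (g⁻¹ * m))⁻¹ ∈ (P : Subgroup K)
      have e : n * (g⁻¹ * m) * x * (n * (g⁻¹ * m))⁻¹ = n * (g⁻¹ * m * x * (g⁻¹ * m)⁻¹) * n⁻¹ := by group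
      rw [e]
      exact this
    have h4 : n * (g⁻¹ * m) ∈ normalizer ((P : Subgroup K) : Set K) := by
      rw [mem_normalizer_iff_map_conj_eq]
      apply Subgroup.eq_of_le_of_card_ge h3
      rw [← Nat.card_congr ((P : Subgroup K).equivMapOfInjective (MulAut.conj (n * (g⁻¹ * m))).toMonoidHom
        (MulAut.conj (n * (g⁻¹ * m))).injective).toEquiv]
    have h5 := mul_mem (mul_mem (inv_mem hn) (hN h4)) (inv_mem hm)
    have e : n⁻¹ * (n * (g⁻¹ * m)) * m⁻¹ = g⁻¹ := by group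
    rw [e] at h5
    exact hg (inv_mem_iff.1 h5)

/-- `K` simple, `Y < K` contains the centralizers of all the involutions of the abelian Sylow 2-subgroup `P`: there is
a strongly embedded subgroup. -/
theorem exists_stronglyEmbedded [IsSimpleGroup K] {Y : Subgroup K} (hY : Y ≠ ⊤)
    (hC : ∀ a ∈ (P : Subgroup K), a * a = 1 → a ≠ 1 → centralizer {a} ≤ Y) {a₀ : K}
    (ha₀ : a₀ ∈ (P : Subgroup K)) (ha₀a : a₀ * a₀ = 1) (ha₀1 : a₀ ≠ 1) :
    ∃ M : Subgroup K, IsStronglyEmbedded M ∧ (P : Subgroup K) ≤ M := by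
  set W : Subgroup K := closure {x | ∃ a ∈ (P : Subgroup K), a * a = 1 ∧ a ≠ 1 ∧ x ∈ centralizer {a}} with hW
  have hCW : ∀ a ∈ (P : Subgroup K), a * a = 1 → a ≠ 1 → centralizer {a} ≤ W :=
    fun a ha haa ha1 x hx => subset_closure ⟨a, ha, haa, ha1, hx⟩
  have hWY : W ≤ Y := by
    rw [hW, closure_le]
    rintro x ⟨a, ha, haa, ha1, hx⟩
    exact hC a ha haa ha1 hx
  have hWn : ∀ n ∈ normalizer ((P : Subgroup K) : Set K), ∀ x ∈ W, n * x * n⁻¹ ∈ W := by
    intro n hn x hx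
    have h1 : W ≤ W.comap (MulAut.conj n).toMonoidHom := by
      conv_lhs => rw [hW]
      rw [closure_le]
      rintro y ⟨a, ha, haa, ha1, hy⟩
      rw [mem_centralizer_singleton_iff] at hy
      change n * y * n⁻¹ ∈ W
      refine hCW (n * a * n⁻¹) ((mem_normalizer_iff.1 hn a).1 ha) ?_ ?_ ?_
      · calc n * a * n⁻¹ * (n * a * n⁻¹) = n * (a * a) * n⁻¹ := by group
          _ = 1 := by rw [haa]; group
      · intro h
        apply ha1
        have := congrArg (fun x => n⁻¹ * x * n) h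
        simpa [mul_assoc] using this
      · rw [mem_centralizer_singleton_iff]
        calc n * y * n⁻¹ * (n * a * n⁻¹) = n * (y * a) * n⁻¹ := by group
          _ = n * (a * y) * n⁻¹ := by rw [hy]
          _ = n * a * n⁻¹ * (n * y * n⁻¹) := by group
    exact h1 hx
  have hNM : normalizer ((P : Subgroup K) : Set K) ≤ normalizer (W : Set K) := by
    intro n hn
    rw [mem_normalizer_iff]
    intro x
    refine ⟨hWn n hn x, fun h => ?_⟩
    have h1 := hWn n⁻¹ (inv_mem hn) _ h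
    have e : n⁻¹ * (n * x * n⁻¹) * n⁻¹⁻¹ = x := by group
    rwa [e] at h1
  refine ⟨normalizer (W : Set K), stronglyEmbedded P hab ?_ hNM
    (fun a ha haa ha1 => (hCW a ha haa ha1).trans le_normalizer) ha₀ ha₀a ha₀1, le_normalizer.trans hNM⟩
  intro htop
  have hWn : W.Normal := normalizer_eq_top_iff.1 htop
  rcases hWn.eq_bot_or_eq_top with h | h
  · have h1 : a₀ ∈ W := hCW a₀ ha₀ ha₀a ha₀1 (mem_centralizer_singleton_iff.2 rfl)
    rw [h, mem_bot] at h1
    exact ha₀1 h1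
  · exact hY (top_le_iff.1 (h ▸ hWY))

/-- **One class of involutions**, with fusion by elements of odd order. -/
theorem exists_odd_conj_inv [IsSimpleGroup K] {Y : Subgroup K} (hY : Y ≠ ⊤)
    (hC : ∀ a ∈ (P : Subgroup K), a * a = 1 → a ≠ 1 → centralizer {a} ≤ Y) {a b : K}
    (ha : a ∈ (P : Subgroup K)) (haa : a * a = 1) (ha1 : a ≠ 1)
    (hb : b ∈ (P : Subgroup K)) (hbb : b * b = 1) (hb1 : b ≠ 1) :
    ∃ n ∈ normalizer ((P : Subgroup K) : Set K), Odd (orderOf n) ∧ n * a * n⁻¹ = b := by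
  obtain ⟨M, hM, -⟩ := exists_stronglyEmbedded P hab hY hC ha haa ha1
  exact exists_odd_conj P hab ha hb (Cfsg.Agent.TwoFusion.StronglyEmbeddedBasic.isConj_of_involutions hM a b
    (orderOf_eq_prime (by rw [pow_two, haa]) ha1) (orderOf_eq_prime (by rw [pow_two, hbb]) hb1))

end main

end Cfsg.Agent.OddHalf.D3.Spread
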